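import Groth.Prelude.Def_Smoothing
import Mathlib

/-!
Relations in `S ⊗ B` are witnessed over a finitely presented algebra mapping to `S`; consequences
for ind-smooth algebras (flatness, integral closure commutes with base change).
-/

namespace Groth.Agent.IndSmoothLib

universe u v

open TensorProduct MvPolynomial

variable {R S : Type u} [CommRing R] [CommRing S] [Algebra R S]

/-- Every element of `S ⊗ B` comes from a polynomial algebra in finitely many variables, with
prescribed further variables. -/
theorem exists_lift {B : Type v} [AddCommGroup B] [Module R B] (x : S ⊗[R] B) {τ : Type} (s : τ → S) :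
    ∃ (k : ℕ) (π : MvPolynomial (Fin k ⊕ τ) R →ₐ[R] S) (z : MvPolynomial (Fin k ⊕ τ) R ⊗[R] B),
      π.toLinearMap.rTensor B z = x ∧ ∀ t, π (X (Sum.inr t)) = s t := by
  obtain ⟨k, m, n, rfl⟩ := TensorProduct.exists_sum_tmul_eq x
  exact ⟨k, aeval (Sum.elim m s), ∑ j, X (Sum.inl j) ⊗ₜ n j,
    by simp [map_sum], fun t => by simp⟩

/-- A relation in `S ⊗ B` already holds over a finitely presented algebra mapping to `S`. -/
theorem exists_fp_factor {B : Type v} [AddCommGroup B] [Module R B] {σ : Type} [Finite σ]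
    (π : MvPolynomial σ R →ₐ[R] S) (z : MvPolynomial σ R ⊗[R] B)
    (hz : π.toLinearMap.rTensor B z = 0) :
    ∃ (A : Type u) (_ : CommRing A) (_ : Algebra R A), Algebra.FinitePresentation R A ∧
      ∃ (g : MvPolynomial σ R →ₐ[R] A) (h : A →ₐ[R] S), h.comp g = π ∧
        g.toLinearMap.rTensor B z = 0 := by
  classical
  let q : (B →₀ R) →ₗ[R] B := Finsupp.linearCombination R id
  have hq : Function.Surjective q := fun b => ⟨Finsupp.single b 1, by simp [q]⟩
  obtain ⟨zt, hzt⟩ := LinearMap.lTensor_surjective (MvPolynomial σ R) hq z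
  have h0 : q.lTensor S (π.toLinearMap.rTensor (B →₀ R) zt) = 0 := by
    rw [← LinearMap.comp_apply, LinearMap.lTensor_comp_rTensor, ← LinearMap.rTensor_comp_lTensor,
      LinearMap.comp_apply, hzt, hz]
  have hex : Function.Exact ((LinearMap.ker q).subtype.lTensor S) (q.lTensor S) :=
    lTensor_exact (M := ↥(LinearMap.ker q)) S q.exact_subtype_ker_map hq
  obtain ⟨w, hw⟩ := (hex _).1 h0
  obtain ⟨k, m, l, rfl⟩ := TensorProduct.exists_sum_tmul_eq w
  let π' : MvPolynomial (σ ⊕ Fin k) R →ₐ[R] S := aeval (Sum.elim (fun i => π (X i)) m)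
  let inc : MvPolynomial σ R →ₐ[R] MvPolynomial (σ ⊕ Fin k) R := rename Sum.inl
  have hcomp : π'.comp inc = π := by ext i; simp [π', inc]
  let d : MvPolynomial (σ ⊕ Fin k) R ⊗[R] (B →₀ R) :=
    inc.toLinearMap.rTensor _ zt -
      ∑ j, X (Sum.inr j) ⊗ₜ[R] ((l j : LinearMap.ker q) : B →₀ R)
  have hd : π'.toLinearMap.rTensor (B →₀ R) d = 0 := by
    simp only [d, map_sub, map_sum, LinearMap.rTensor_tmul, AlgHom.toLinearMap_apply]
    rw [← LinearMap.comp_apply, ← LinearMap.rTensor_comp, ← AlgHom.comp_toLinearMap, hcomp, ← hw,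
      map_sum, sub_eq_zero]
    refine Finset.sum_congr rfl fun j _ => ?_
    simp [π']
  let c := TensorProduct.finsuppScalarRight R R (MvPolynomial (σ ⊕ Fin k) R) B d
  let J : Ideal (MvPolynomial (σ ⊕ Fin k) R) := Ideal.span (c.support.image c : Set _)
  have hJ : ∀ p ∈ J, π' p = 0 := by
    intro p hp
    refine (Ideal.span_le.2 ?_ : J ≤ RingHom.ker π') hp
    intro p hp
    obtain ⟨b, -, rfl⟩ := Finset.mem_image.1 hp
    have : ∀ y : MvPolynomial (σ ⊕ Fin k) R ⊗[R] (B →₀ R),
        π' (TensorProduct.finsuppScalarRight R R (MvPolynomial (σ ⊕ Fin k) R) B y b) =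
          TensorProduct.finsuppScalarRight R R S B (π'.toLinearMap.rTensor _ y) b := by
      intro y
      induction y with
      | zero => simp
      | tmul a f => simp [TensorProduct.finsuppScalarRight_apply_tmul_apply]
      | add x y hx hy => simp only [map_add, Finsupp.add_apply, hx, hy]
    simpa [c, hd] using this d
  refine ⟨MvPolynomial (σ ⊕ Fin k) R ⧸ J, inferInstance, inferInstance,
    Algebra.FinitePresentation.quotient ⟨_, rfl⟩, (Ideal.Quotient.mkₐ R J).comp inc,
    Ideal.Quotient.liftₐ J π' hJ, ?_, ?_⟩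
  · rw [← AlgHom.comp_assoc, Ideal.Quotient.liftₐ_comp, hcomp]
  · have hd' : (Ideal.Quotient.mkₐ R J).toLinearMap.rTensor (B →₀ R) d = 0 := by
      apply (TensorProduct.finsuppScalarRight R R (MvPolynomial (σ ⊕ Fin k) R ⧸ J) B).injective
      rw [map_zero]
      have : ∀ (y : MvPolynomial (σ ⊕ Fin k) R ⊗[R] (B →₀ R)) (b : B),
          TensorProduct.finsuppScalarRight R R (MvPolynomial (σ ⊕ Fin k) R ⧸ J) B
            ((Ideal.Quotient.mkₐ R J).toLinearMap.rTensor _ y) b =
          Ideal.Quotient.mk J (TensorProduct.finsuppScalarRight R R (MvPolynomial (σ ⊕ Fin k) R) B y b) := by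
        intro y b
        induction y with
        | zero => simp
        | tmul a f =>
          simp only [TensorProduct.finsuppScalarRight_apply_tmul_apply, LinearMap.rTensor_tmul,
            AlgHom.toLinearMap_apply]
          exact (map_smul (Ideal.Quotient.mkₐ R J) _ _).symm
        | add x y hx hy => simp only [map_add, Finsupp.add_apply, hx, hy]
      ext b
      rw [this d b]
      by_cases hb : b ∈ c.support
      · exact Ideal.Quotient.eq_zero_iff_mem.2
          (Ideal.subset_span (Finset.mem_image_of_mem c hb))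
      · simp [show TensorProduct.finsuppScalarRight R R _ B d b = 0 from Finsupp.notMem_support_iff.1 hb]
    have hsum : q.lTensor (MvPolynomial (σ ⊕ Fin k) R) d = inc.toLinearMap.rTensor B z := by
      simp only [d, map_sub, map_sum, LinearMap.lTensor_tmul, LinearMap.map_coe_ker, tmul_zero,
        Finset.sum_const_zero, sub_zero]
      rw [← LinearMap.comp_apply, LinearMap.lTensor_comp_rTensor, ← LinearMap.rTensor_comp_lTensor,
        LinearMap.comp_apply, hzt]
    rw [AlgHom.comp_toLinearMap, LinearMap.rTensor_comp, LinearMap.comp_apply, ← hsum,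
      ← LinearMap.comp_apply, LinearMap.rTensor_comp_lTensor, ← LinearMap.lTensor_comp_rTensor,
      LinearMap.comp_apply, hd', map_zero]

/-- A relation in `S ⊗ B`, `S` ind-smooth, already holds over a smooth algebra mapping to `S`. -/
theorem exists_smooth_factor (hS : Smoothing.IndSmooth R S) {B : Type v} [AddCommGroup B] [Module R B]
    {σ : Type} [Finite σ] (π : MvPolynomial σ R →ₐ[R] S) (z : MvPolynomial σ R ⊗[R] B)
    (hz : π.toLinearMap.rTensor B z = 0) :
    ∃ (C : Type u) (_ : CommRing C) (_ : Algebra R C), Algebra.Smooth R C ∧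
      ∃ (g : MvPolynomial σ R →ₐ[R] C) (h : C →ₐ[R] S), h.comp g = π ∧
        g.toLinearMap.rTensor B z = 0 := by
  obtain ⟨A, _, _, hA, g, h, hgh, hg⟩ := exists_fp_factor π z hz
  obtain ⟨C, _, _, hC, g', h', hgh'⟩ := hS A hA h
  refine ⟨C, inferInstance, inferInstance, hC, g'.comp g, h', ?_, ?_⟩
  · rw [← AlgHom.comp_assoc, hgh', hgh]
  · rw [AlgHom.comp_toLinearMap, LinearMap.rTensor_comp, LinearMap.comp_apply, hg, map_zero]

/-- Ind-smooth algebras are flat. -/
theorem flat_of_indSmooth (hS : Smoothing.IndSmooth R S) : Module.Flat R S := by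
  refine Module.Flat.iff_lTensor_preserves_injective_linearMap.2 fun M N _ _ _ _ f hf => ?_
  rw [injective_iff_map_eq_zero]
  intro y hy
  obtain ⟨k, π, yt, rfl, -⟩ := exists_lift y (τ := Fin 0) Fin.elim0
  rw [← LinearMap.comp_apply, LinearMap.lTensor_comp_rTensor, ← LinearMap.rTensor_comp_lTensor,
    LinearMap.comp_apply] at hy
  obtain ⟨C, _, _, hC, g, h, rfl, hg⟩ := exists_smooth_factor hS π _ hy
  rw [← LinearMap.comp_apply, LinearMap.rTensor_comp_lTensor, ← LinearMap.lTensor_comp_rTensor,
    LinearMap.comp_apply] at hg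
  have : g.toLinearMap.rTensor M yt = 0 :=
    (injective_iff_map_eq_zero _).1 (Module.Flat.lTensor_preserves_injective_linearMap f hf) _ hg
  rw [AlgHom.comp_toLinearMap, LinearMap.rTensor_comp, LinearMap.comp_apply, this, map_zero]

/-- Integral closure commutes with ind-smooth base change. -/
theorem toIntegralClosure_bijective (hS : Smoothing.IndSmooth R S) (B : Type u) [CommRing B]
    [Algebra R B] : Function.Bijective (TensorProduct.toIntegralClosure R S B) := by
  have := flat_of_indSmooth hS
  refine ⟨TensorProduct.toIntegralClosure_injective_of_flat, ?_⟩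
  rintro ⟨x, p, hpm, hp⟩
  obtain ⟨k, π, z, hzx, hπ⟩ := exists_lift x (τ := Fin p.natDegree) fun i => p.coeff i
  let P := MvPolynomial (Fin k ⊕ Fin p.natDegree) R
  let q : Polynomial P := Polynomial.X ^ p.natDegree +
    ∑ i : Fin p.natDegree, Polynomial.C (X (Sum.inr i)) * Polynomial.X ^ (i : ℕ)
  have hq : q.Monic := Polynomial.monic_X_pow_add ((Polynomial.degree_sum_fin_lt _))
  have hqp : q.map π.toRingHom = p := by
    conv_rhs => rw [hpm.as_sum]
    simp [q, Polynomial.map_sum, hπ, Finset.sum_range]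
  let w : P ⊗[R] B := Polynomial.eval₂ Algebra.TensorProduct.includeLeftRingHom z q
  have hmap : ∀ (C : Type u) [CommRing C] [Algebra R C] (g : P →ₐ[R] C) (y : P ⊗[R] B),
      g.toLinearMap.rTensor B y = Algebra.TensorProduct.map g (AlgHom.id R B) y := fun C _ _ g y => by
    induction y with
    | zero => simp
    | tmul a b => simp
    | add x y hx hy => rw [map_add, map_add, hx, hy]
  have heval : ∀ (C : Type u) [CommRing C] [Algebra R C] (g : P →ₐ[R] C),
      g.toLinearMap.rTensor B w =
        Polynomial.eval₂ (algebraMap C (C ⊗[R] B)) (g.toLinearMap.rTensor B z) (q.map g.toRingHom) := by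
    intro C _ _ g
    rw [hmap, hmap, Polynomial.eval₂_map, ← AlgHom.coe_toRingHom (Algebra.TensorProduct.map g _),
      Polynomial.hom_eval₂]
    congr 1
  have hw : π.toLinearMap.rTensor B w = 0 := by rw [heval, hqp, hzx]; exact hp
  obtain ⟨C, _, _, hC, g, h, hgh, hg⟩ := exists_smooth_factor hS π w hw
  have hint : g.toLinearMap.rTensor B z ∈ integralClosure C (C ⊗[R] B) :=
    ⟨q.map g.toRingHom, hq.map _, (heval C g).symm.trans hg⟩
  obtain ⟨y, hy⟩ := (TensorProduct.toIntegralClosure_bijective_of_smooth (R := R) (S := C) (B := B)).2 ⟨_, hint⟩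
  refine ⟨h.toLinearMap.rTensor _ y, Subtype.ext ?_⟩
  have : ∀ y' : C ⊗[R] integralClosure R B,
      ((TensorProduct.toIntegralClosure R S B (h.toLinearMap.rTensor _ y')) : S ⊗[R] B) =
        h.toLinearMap.rTensor B (TensorProduct.toIntegralClosure R C B y' : C ⊗[R] B) := fun y' => by
    induction y' with
    | zero => simp
    | tmul a b => simp [TensorProduct.toIntegralClosure]
    | add x y hx hy => simp only [map_add, Subalgebra.coe_add, hx, hy]
  rw [this, hy, ← LinearMap.comp_apply, ← LinearMap.rTensor_comp, ← AlgHom.comp_toLinearMap, hgh]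
  exact hzx

end Groth.Agent.IndSmoothLib
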